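import Groth.Agent.Lib.Exchange.HomAdj
import Groth.Agent.Lib.RefHull.HomSh
import Groth.Agent.Lib.ModTensor.ModSite
import Groth.Agent.Lib.Modules.StalkModule
import Groth.Prelude.Def_ExtSupp

/-!
# The stalk of the internal hom

`σ M G x : ℋom(M, G)_x →ₗ Hom(M_x, G_x)` for the internal hom `ModSite.sheafHom`, natural in `G`, bijective
for coherent `M` on a locally Noetherian scheme.
-/

set_option autoImplicit false
set_option linter.style.haveILetI false
universe u

open CategoryTheory CategoryTheory.Limits AlgebraicGeometry Opposite TopologicalSpace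

noncomputable section

namespace Groth.Agent.Lib.ExtShStalk.Hom

open Groth.Agent.Lib Groth.Agent.Lib.Modules ZarCoh.Exchange RefHull.SecHom
open Groth.Agent.Lib.TensorMod.Basic (tmap)

variable {X : Scheme.{u}} (M : X.Modules) [ModSite.HasSheafHom (O := X.sheaf) M]

/-- The internal hom as a functor of `O_X`-modules. -/
abbrev R : X.Modules ⥤ X.Modules := ModSite.sheafHom (O := X.sheaf) M

/-- `M ⊗ - ⊣ ℋom(M, -)`. -/
def adj : (DCoh.tensorBi (X := X)).obj M ⊣ R M :=
  (ModSite.sheafHomAdj (O := X.sheaf) M).ofNatIsoLeft (ModTensor.ModSite.flipObjIso (O := X.sheaf) M)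

/-- Evaluation `M ⊗ ℋom(M, G) ⟶ G`. -/
def ε (G : X.Modules) : CohB1.tensorMod M ((R M).obj G) ⟶ G := (adj M).counit.app G

theorem ε_natural {G G' : X.Modules} (g : G ⟶ G') :
    tmap (𝟙 M) ((R M).map g) ≫ ε M G' = ε M G ≫ g :=
  (congrArg (· ≫ ε M G') (DerivedOX.PullTensor.tensorBi_obj_map M ((R M).map g)).symm).trans
    ((adj M).counit.naturality g)

/-- The comparison with the sheaf of local homomorphisms. -/
def θ (G : X.Modules) : (R M).obj G ⟶ RefHull.homSh M G := HomAdj.homEquiv M G _ (ε M G)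

instance isIso_θ (G : X.Modules) : IsIso (θ M G) := by
  refine (isIso_iff_yoneda_map_bijective _).2 fun T => ?_
  have e : (fun t : T ⟶ (R M).obj G => t ≫ θ M G) =
      fun t => HomAdj.homEquiv M G T (((adj M).homEquiv T G).symm t) := funext fun t => by
    refine (HomAdj.homEquiv_natural t (ε M G)).symm.trans (congrArg _ ?_)
    rw [Adjunction.homEquiv_counit]
    exact (congrArg (· ≫ ε M G) (DerivedOX.PullTensor.tensorBi_obj_map M t)).symm
  rw [e]
  exact (HomAdj.homEquiv M G T).bijective.comp ((adj M).homEquiv T G).symm.bijective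

/-- The stalk of the internal hom maps to homomorphisms of stalks. -/
def σ (G : X.Modules) (x : X) :
    ((R M).obj G).presheaf.stalk x →ₗ[X.presheaf.stalk x] RefHull.StalkHom M G x :=
  HomAdj.stalkPair (ε M G) x

theorem σ_eq (G : X.Modules) (x : X) (v : ((R M).obj G).presheaf.stalk x) :
    σ M G x v = RefHull.evalStalk M G x (StalkModule.stalkMapₗ (θ M G) x v) := by
  obtain ⟨U, hx, s, rfl⟩ := TopCat.Presheaf.exists_germ_eq ((R M).obj G).presheaf v
  rw [StalkModule.stalkMapₗ_germ, RefHull.evalStalk_germ]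
  rfl

theorem σ_bijective [IsLocallyNoetherian X] (hM : Coh.IsCoh M) (G : X.Modules) (x : X) :
    Function.Bijective (σ M G x) := by
  rw [show ⇑(σ M G x) = RefHull.evalStalk M G x ∘ StalkModule.stalkMapₗ (θ M G) x from
    funext (σ_eq M G x)]
  exact (RefHull.HomSh.evalStalk_bijective hM x).comp
    ((StalkModule.isIso_iff_stalkMapₗ_bijective (θ M G)).1 inferInstance x)

omit [ModSite.HasSheafHom (O := X.sheaf) M] in
theorem stalkPair_comp {N B B' : X.Modules} (φ : CohB1.tensorMod M N ⟶ B) (g : B ⟶ B') (x : X)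
    (v : N.presheaf.stalk x) :
    HomAdj.stalkPair (φ ≫ g) x v = (StalkModule.stalkMapₗ g x).comp (HomAdj.stalkPair φ x v) :=
  LinearMap.ext fun a => by
    show StalkModule.stalkMapₗ (φ ≫ g) x _ = StalkModule.stalkMapₗ g x (StalkModule.stalkMapₗ φ x _)
    rw [StalkModule.stalkMapₗ_comp]
    rfl

omit [ModSite.HasSheafHom (O := X.sheaf) M] in
theorem stalkPair_tmap {N N' B : X.Modules} (h : N' ⟶ N) (φ : CohB1.tensorMod M N ⟶ B) (x : X)
    (v : N'.presheaf.stalk x) :
    HomAdj.stalkPair (tmap (𝟙 M) h ≫ φ) x v = HomAdj.stalkPair φ x (StalkModule.stalkMapₗ h x v) := by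
  refine LinearMap.ext fun a => ?_
  obtain ⟨U, hx, m, rfl⟩ := TopCat.Presheaf.exists_germ_eq N'.presheaf v
  obtain ⟨V, hV, b, rfl⟩ := TopCat.Presheaf.exists_germ_eq M.presheaf a
  have hxW : x ∈ U ⊓ V := ⟨hx, hV⟩
  rw [← germ_rs (M := N') (inf_le_left : U ⊓ V ≤ U) hxW m,
    ← germ_rs (M := M) (inf_le_right : U ⊓ V ≤ V) hxW b,
    HomAdj.stalkPair_germ, StalkModule.stalkMapₗ_germ, HomAdj.stalkPair_germ]
  exact congrArg _ ((TensorMod.Free.pairM_tmap_comp _ _ _ _ _))

theorem σ_natural {G G' : X.Modules} (g : G ⟶ G') (x : X) (v : ((R M).obj G).presheaf.stalk x) :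
    σ M G' x (StalkModule.stalkMapₗ ((R M).map g) x v) =
      (StalkModule.stalkMapₗ g x).comp (σ M G x v) := by
  show HomAdj.stalkPair (ε M G') x _ = _
  rw [← stalkPair_tmap, ε_natural, stalkPair_comp]
  rfl

end Groth.Agent.Lib.ExtShStalk.Hom
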