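import Groth.Agent.Lib.ExtShStalk.Hom
import Groth.Agent.Lib.ExtLin.Inj
import Groth.Agent.Lib.Modules.DerivedComm
import Mathlib.Algebra.Category.ModuleCat.ChangeOfRings
import Mathlib.Algebra.Category.ModuleCat.Ext.HasExt
import Mathlib.Algebra.Module.Injective

/-!
# The stalk of an Ext sheaf

`ℰxt^q(M, G)_x ≅ Ext^q(M_x, G_x)` for coherent `M` when injective modules have injective stalks at `x`.
-/

set_option autoImplicit false
set_option linter.style.haveILetI false
universe u

open CategoryTheory CategoryTheory.Limits AlgebraicGeometry Opposite TopologicalSpace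

noncomputable section

namespace Groth.Agent.Lib.ExtShStalk.Main

open Groth.Agent.Lib Groth.Agent.Lib.Modules

variable {X : Scheme.{u}} (x : X) {S : Type u} [CommRing S] (e : S ≃+* X.presheaf.stalk x)

/-- The stalk at `x` with scalars restricted along `e`. -/
abbrev Ψ : X.Modules ⥤ ModuleCat.{u} S :=
  StalkModule.stalkModFunctor X x ⋙ ModuleCat.restrictScalars e.toRingHom

instance : (ModuleCat.restrictScalars.{u} e.toRingHom).IsEquivalence :=
  (ModuleCat.restrictScalarsEquivalenceOfRingEquiv e).isEquivalence_functor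

theorem preservesInjectiveObjects_Ψ
    (hinj : ∀ I : X.Modules, Injective I → Module.Injective (X.presheaf.stalk x) (I.presheaf.stalk x)) :
    (Ψ x e).PreservesInjectiveObjects where
  injective_obj {I} hI :=
    haveI : Injective ((StalkModule.stalkModFunctor X x).obj I) :=
      (Module.injective_iff_injective_object (X.presheaf.stalk x) (I.presheaf.stalk x)).1 (hinj I hI)
    (ModuleCat.restrictScalars.{u} e.toRingHom).injective_obj ((StalkModule.stalkModFunctor X x).obj I)

instance preservesHomology_stalk : (StalkModule.stalkModFunctor X x).PreservesHomology := by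
  haveI : PreservesColimitsOfSize.{0, 0} (StalkModule.stalkModFunctor X x) :=
    preservesColimitsOfSize_shrink.{0, u, 0, u} _
  haveI : PreservesFiniteColimits (StalkModule.stalkModFunctor X x) :=
    PreservesColimitsOfSize.preservesFiniteColimits _
  infer_instance

variable (M : X.Modules) [ModSite.HasSheafHom (O := X.sheaf) M]

/-- `ℋom(M, G)_x ⟶ Hom(M_x, G_x)`. -/
def comp (G : X.Modules) :
    (Ψ x e).obj ((Hom.R M).obj G) ⟶
      ((linearCoyoneda S (ModuleCat.{u} S)).obj (op ((Ψ x e).obj M))).obj ((Ψ x e).obj G) :=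
  ModuleCat.ofHom (X := (Ψ x e).obj ((Hom.R M).obj G))
    { toFun := fun v => (ModuleCat.restrictScalars e.toRingHom).map
        (ModuleCat.ofHom (Hom.σ M G x v) :
          (StalkModule.stalkModFunctor X x).obj M ⟶ (StalkModule.stalkModFunctor X x).obj G)
      map_add' := fun a b => by
        refine ModuleCat.hom_ext (LinearMap.ext fun m => ?_)
        exact LinearMap.congr_fun (map_add (Hom.σ M G x) a b) m
      map_smul' := fun s v => by
        refine ModuleCat.hom_ext (LinearMap.ext fun m => ?_)
        exact LinearMap.congr_fun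
          (map_smul (Hom.σ M G x) (e s) (show ((Hom.R M).obj G).presheaf.stalk x from v)) m }

theorem comp_natural {G G' : X.Modules} (g : G ⟶ G') :
    (Ψ x e).map ((Hom.R M).map g) ≫ comp x e M G' =
      comp x e M G ≫
        ((linearCoyoneda S (ModuleCat.{u} S)).obj (op ((Ψ x e).obj M))).map ((Ψ x e).map g) := by
  refine ModuleCat.hom_ext (LinearMap.ext fun v => ?_)
  refine ModuleCat.hom_ext (LinearMap.ext fun m => ?_)
  exact LinearMap.congr_fun (Hom.σ_natural M g x v) m

variable [IsLocallyNoetherian X] (hM : Coh.IsCoh M)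

include hM in
theorem isIso_comp (G : X.Modules) : IsIso (comp x e M G) :=
  (ConcreteCategory.isIso_iff_bijective _).2 <|
    (((Functor.FullyFaithful.ofFullyFaithful (ModuleCat.restrictScalars.{u} e.toRingHom)).map_bijective
      ((StalkModule.stalkModFunctor X x).obj M) ((StalkModule.stalkModFunctor X x).obj G)).comp
      (ModuleCat.homLinearEquiv (S := ℤ)).symm.bijective).comp (Hom.σ_bijective M hM G x)

/-- `ℋom(M, -)_x ≅ Hom(M_x, (-)_x)`. -/
def compIso : Hom.R M ⋙ Ψ x e ≅
    Ψ x e ⋙ (linearCoyoneda S (ModuleCat.{u} S)).obj (op ((Ψ x e).obj M)) :=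
  NatIso.ofComponents (fun G => @asIso _ _ _ _ (comp x e M G) (isIso_comp x e M hM G))
    fun g => comp_natural x e M g

include hM in
/-- `ℰxt^q(M, G)_x ≅ Ext^q(M_x, G_x)`. -/
theorem nonempty_equiv [HasInjectiveResolutions (ModSite.Mod X.sheaf)]
    (hinj : ∀ I : X.Modules, Injective I → Module.Injective (X.presheaf.stalk x) (I.presheaf.stalk x))
    (G : X.Modules) (q : ℕ) :
    Nonempty ((Ψ x e).obj ((ModSite.extSh (O := X.sheaf) M q).obj G) ≃ₗ[S]
      Abelian.Ext.{u} ((Ψ x e).obj M) ((Ψ x e).obj G) q) := by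
  haveI : HasInjectiveResolutions X.Modules := ‹HasInjectiveResolutions (ModSite.Mod X.sheaf)›
  haveI := preservesInjectiveObjects_Ψ x e hinj
  haveI : (Hom.R M).Additive := (Hom.adj M).right_adjoint_additive
  let I := injectiveResolution G
  let L := (linearCoyoneda S (ModuleCat.{u} S)).obj (op ((Ψ x e).obj M))
  exact ⟨((Ψ x e).mapIso (I.isoRightDerivedObj (Hom.R M) q) ≪≫
      (((((Hom.R M).mapHomologicalComplex _).obj I.cocomplex).sc q).mapHomologyIso (Ψ x e)).symm ≪≫
      (HomologicalComplex.homologyFunctor _ _ q).mapIso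
        ((NatIso.mapHomologicalComplex (compIso x e M hM) _).app I.cocomplex :
          ((Hom.R M ⋙ Ψ x e).mapHomologicalComplex _).obj I.cocomplex ≅
            ((Ψ x e ⋙ L).mapHomologicalComplex _).obj I.cocomplex)).toLinearEquiv ≪≫ₗ
    ExtLin.Inj.homologyEquiv S ((Ψ x e).obj M) (DerivedComm.mapInjectiveResolution (Ψ x e) I) q⟩

end Groth.Agent.Lib.ExtShStalk.Main
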