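import Groth.Agent.Lib.ExtShStalk.Hom
import Groth.Agent.H52.ExtResolve
import Groth.Agent.H52.RelExtLES
import Groth.Agent.Lib.RefHull.LocFree
import Groth.Agent.Lib.Perfect.Coherent
import Groth.Agent.Lib.CohBasics.Closure

/-!
# Coherence of Ext sheaves
-/

set_option autoImplicit false
set_option linter.style.haveILetI false
universe u

open CategoryTheory CategoryTheory.Limits AlgebraicGeometry Opposite

noncomputable section

namespace Groth.Agent.Lib.ExtShStalk.Coh

open Groth.Agent.Lib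
open Groth.Agent.H52 (ExtResolve.hasSheafHom')

variable {X : Scheme.{u}} [IsLocallyNoetherian X] [HasInjectiveResolutions (ModSite.Mod X.sheaf)]

/-- `ℰxt^q(M, G)`. -/
abbrev E (M : X.Modules) [ModSite.HasSheafHom (O := X.sheaf) M] (G : X.Modules) (q : ℕ) : X.Modules :=
  (ModSite.extSh (O := X.sheaf) M q).obj G

omit [IsLocallyNoetherian X] in
theorem isZero_E {A : X.Modules} (hA : FlatMod.IsFinLocFree A) (G : X.Modules) (n : ℕ) :
    IsZero (E A G (n + 1)) := by
  haveI : (ModSite.sheafHom (O := X.sheaf) A ⋙ 𝟭 X.Modules).Additive :=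
    { map_add := fun {M N} {f g} => (ModSite.sheafHom (O := X.sheaf) A).map_add }
  exact H52.ExtResolve.isZero_rightDerived_locFree hA G n

theorem isCoh_zero (M : X.Modules) (hM : Coh.IsCoh M) (G : X.Modules) (hG : Coh.IsCoh G) :
    Coh.IsCoh (E M G 0) := by
  haveI : HasInjectiveResolutions X.Modules := ‹HasInjectiveResolutions (ModSite.Mod X.sheaf)›
  haveI : (Hom.R M).Additive := (Hom.adj M).right_adjoint_additive
  haveI : PreservesLimitsOfSize.{0, 0} (Hom.R M) := (Hom.adj M).rightAdjoint_preservesLimits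
  haveI : PreservesFiniteLimits (Hom.R M) := PreservesLimitsOfSize.preservesFiniteLimits _
  exact CohBasics.Closure.isCoh_of_iso
    (((Hom.R M).rightDerivedZeroIsoSelf.app G) ≪≫ asIso (Hom.θ M G)).symm
    (RefHull.HomSh.isCoh_homSh hM hG)

theorem isCoh_succ {S : ShortComplex X.Modules} (hS : S.ShortExact) (h2 : FlatMod.IsFinLocFree S.X₂)
    (G : X.Modules) (q : ℕ) (hA : Coh.IsCoh (E S.X₂ G q)) (hB : Coh.IsCoh (E S.X₁ G q)) :
    Coh.IsCoh (E S.X₃ G (q + 1)) := by
  haveI : HasInjectiveResolutions X.Modules := ‹HasInjectiveResolutions (ModSite.Mod X.sheaf)›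
  haveI : ∀ A : X.Modules, (Hom.R A).Additive := fun A => (Hom.adj A).right_adjoint_additive
  let fG : Hom.R S.X₃ ⟶ Hom.R S.X₂ := ExtSupp.sheafHomMap (O := X.sheaf) S.g
  let gG : Hom.R S.X₂ ⟶ Hom.R S.X₁ := ExtSupp.sheafHomMap (O := X.sheaf) S.f
  have w : ∀ Z : X.Modules, fG.app Z ≫ gG.app Z = 0 := fun Z =>
    H52.HomInj.map_comp_eq_zero (O := X.sheaf) S Z
  have hI : ∀ I : X.Modules, Injective I → (ShortComplex.mk (fG.app I) (gG.app I) (w I)).ShortExact := by
    intro I hI
    haveI : Injective (C := ModSite.Mod X.sheaf) I := hI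
    obtain ⟨hex, hmono⟩ := H52.HomInj.exact_mono (O := X.sheaf) (S := S) hS I
    refine { exact := hex, mono_f := hmono, epi_g := ?_ }
    exact ClSub.Basis.epi_of_surjective_affine (φ := gG.app I) fun U =>
      H52.HomInj.surjective_sections (O := X.sheaf) (S := S) hS I (op U.1)
  obtain ⟨h₁, e₁⟩ := H52.RelExtLES.exact₁ fG gG w hI q G
  have e₃ := H30.DerivedSES.exact₃ fG gG w hI q G
  let δ := (H30.DerivedSES.δ fG gG w hI q).app G
  haveI : Epi δ := (ShortComplex.exact_iff_epi _ ((isZero_E h2 G q).eq_of_tgt _ _)).1 e₁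
  exact CohBasics.Closure.isCoh_of_iso
    ((colimit.isColimit _).coconePointUniqueUpToIso e₃.gIsCokernel)
    (CohBasics.Closure.isCoh_cokernel ((NatTrans.rightDerived gG q).app G) hA.1 hB)

/-- If every coherent module is a quotient of a finite locally free one, Ext sheaves of coherent modules
are coherent. -/
theorem isCoh (hres : ∀ M : X.Modules, Coh.IsCoh M → ∃ S : ShortComplex X.Modules,
      S.ShortExact ∧ Coh.IsCoh S.X₁ ∧ FlatMod.IsFinLocFree S.X₂ ∧ S.X₃ = M)
    (G : X.Modules) (hG : Coh.IsCoh G) :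
    ∀ (q : ℕ) (M : X.Modules), Coh.IsCoh M → Coh.IsCoh (E M G q) := by
  intro q
  induction q with
  | zero => exact fun M hM => isCoh_zero M hM G hG
  | succ q ih =>
    intro M hM
    obtain ⟨S, hS, h1, h2, rfl⟩ := hres M hM
    exact isCoh_succ hS h2 G q (ih _ (Perfect.Coherent.isCoh_of_isFinLocFree h2)) (ih _ h1)

end Groth.Agent.Lib.ExtShStalk.Coh
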