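import Groth.Agent.Lib.ExtShStalk.Main
import Groth.Agent.Lib.ExtLin.Congr
import Groth.Agent.Lib.SchPoint.Basic
import Groth.Agent.Lib.Modules.Stalk

/-!
# Vanishing of Ext sheaves, stalk by stalk
-/

set_option autoImplicit false
set_option linter.style.haveILetI false
universe u

open CategoryTheory CategoryTheory.Limits AlgebraicGeometry Opposite TopologicalSpace

noncomputable section

namespace Groth.Agent.Lib.ExtShStalk.Cor

open Groth.Agent.Lib Groth.Agent.Lib.Modules

variable {X : Scheme.{u}}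

/-- Injective modules have injective stalks at `x`. -/
abbrev InjStalk (x : X) : Prop :=
  ∀ I : X.Modules, Injective I → Module.Injective (X.presheaf.stalk x) (I.presheaf.stalk x)

variable [IsLocallyNoetherian X] (M : X.Modules)
  [ModSite.HasSheafHom (O := X.sheaf) M] [HasInjectiveResolutions (ModSite.Mod X.sheaf)]

/-- `ℰxt^q(M, G)`, as an object of `X.Modules`. -/
abbrev ext (G : X.Modules) (q : ℕ) : X.Modules := (ModSite.extSh (O := X.sheaf) M q).obj G

/-- `ℰxt^q(M, G)_x ≅ Ext^q(M_x, G_x)` over the local ring. -/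
theorem nonempty_stalk_equiv (hM : Coh.IsCoh M) {x : X} (hinj : InjStalk x) (G : X.Modules) (q : ℕ) :
    Nonempty ((ext M G q).presheaf.stalk x ≃+
      Abelian.Ext.{u} (ModuleCat.of (X.presheaf.stalk x) (M.presheaf.stalk x))
        (ModuleCat.of (X.presheaf.stalk x) (G.presheaf.stalk x)) q) := by
  obtain ⟨φ⟩ := Main.nonempty_equiv x (RingEquiv.refl (X.presheaf.stalk x)) M hM hinj G q
  let ι : ∀ N : ModuleCat.{u} (X.presheaf.stalk x),
      (ModuleCat.restrictScalars (RingEquiv.refl (X.presheaf.stalk x)).toRingHom).obj N ≅ N := fun N =>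
    (ModuleCat.restrictScalarsId'App (RingEquiv.refl (X.presheaf.stalk x)).toRingHom rfl N)
  exact ⟨φ.toAddEquiv.trans
    (ExtLin.Congr.extCongr (X.presheaf.stalk x) (ι _) (ι _) q).toAddEquiv⟩

/-- An Ext sheaf vanishes iff all the Ext groups of the stalks do. -/
theorem isZero_iff (hM : Coh.IsCoh M) (hinj : ∀ x : X, InjStalk x) (G : X.Modules) (q : ℕ) :
    IsZero ((ModSite.extSh (O := X.sheaf) M q).obj G) ↔
      ∀ x : X, Subsingleton (Abelian.Ext.{u} (ModuleCat.of (X.presheaf.stalk x) (M.presheaf.stalk x))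
        (ModuleCat.of (X.presheaf.stalk x) (G.presheaf.stalk x)) q) := by
  refine (Stalk.isZero_iff_stalk_subsingleton (M := ext M G q)).trans (forall_congr' fun x => ?_)
  obtain ⟨φ⟩ := nonempty_stalk_equiv M hM (hinj x) G q
  exact φ.toEquiv.subsingleton_congr

/-- The stalk of an Ext sheaf at the point of the site, linearly over the stalk ring there. -/
theorem nonempty_stalkMod_equiv (hM : Coh.IsCoh M) {x : X} (hinj : InjStalk x) (G : X.Modules) (q : ℕ) :
    Nonempty (ModSite.stalkMod (Opens.pointGrothendieckTopology x) ((ModSite.extSh (O := X.sheaf) M q).obj G)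
      ≃ₗ[ModSite.stalkRing (Opens.pointGrothendieckTopology x) X.sheaf]
      Abelian.Ext.{u} (ModSite.stalkMod (O := X.sheaf) (Opens.pointGrothendieckTopology x) M)
        (ModSite.stalkMod (O := X.sheaf) (Opens.pointGrothendieckTopology x) G) q) := by
  obtain ⟨φ⟩ := Main.nonempty_equiv x (SchPoint.Basic.ringEquiv x) M hM hinj G q
  exact ⟨(SchPoint.Basic.modIso x _).toLinearEquiv.symm ≪≫ₗ φ ≪≫ₗ
    ExtLin.Congr.extCongr _ (SchPoint.Basic.modIso x M) (SchPoint.Basic.modIso x G) q⟩

end Groth.Agent.Lib.ExtShStalk.Cor
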