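import Groth.Agent.Lib.ExtShStalk.Vanish
import Groth.Agent.Lib.ExtShStalk.Cor
import Groth.Agent.Lib.ProjSpace.Dim
import Groth.Agent.Lib.WeilExt.Basic

/-!
# `ℰxt^q(ι_* O_X, E) = 0` below the codimension
-/

set_option autoImplicit false
set_option linter.style.haveILetI false
universe u

open CategoryTheory CategoryTheory.Limits AlgebraicGeometry

noncomputable section

namespace Groth.Agent.Lib.ExtShStalk.Zero

open Groth.Agent.Lib

variable {k : Type u} [Field k] {P X : Scheme.{u}} (f : P ⟶ Spec (CommRingCat.of k)) [LocallyOfFiniteType f]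
  (ι : X ⟶ P) [IsClosedImmersion ι]
  [ModSite.HasSheafHom (O := P.sheaf) ((Scheme.Modules.pushforward ι).obj (Coh.structureModule X))]
  [HasInjectiveResolutions (ModSite.Mod P.sheaf)]

include f in
/-- `ℰxt^q(ι_* O_X, E) = 0` for `q < r` when `dim X + r ≤ n`. -/
theorem isZero_extSh (hinj : ∀ p : P, Cor.InjStalk (X := P) p)
    (hreg : ∀ p : P, IsRegularLocalRing (P.presheaf.stalk p)) {n r : ℕ}
    (hP : ∀ Z : Set P, Z ∈ irreducibleComponents P → topologicalKrullDim Z = (n : WithBot ℕ∞))
    (hX : topologicalKrullDim X + (r : WithBot ℕ∞) ≤ (n : WithBot ℕ∞))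
    (E : P.Modules) (hE : FlatMod.IsFinLocFree E) {q : ℕ} (hq : q < r) :
    IsZero ((ModSite.extSh (O := P.sheaf) ((Scheme.Modules.pushforward ι).obj (Coh.structureModule X)) q).obj E) := by
  haveI : IsLocallyNoetherian P := LocallyOfFiniteType.isLocallyNoetherian f
  haveI : IsLocallyNoetherian X := LocallyOfFiniteType.isLocallyNoetherian ι
  refine (Cor.isZero_iff _ (Cyc.Dev.SchemeEquiv.isCoh_push ι RefHull.Reflexive.isCoh_structure) hinj E q).2
    fun p => ?_
  cases hd : topologicalKrullDim X with
  | bot =>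
    haveI : IsEmpty X := ⟨fun x => (Order.krullDim_eq_bot_iff.1 hd).false
      ⟨closure {x}, isIrreducible_singleton.closure, isClosed_closure⟩⟩
    haveI := PushClosed.Unit.subsingleton_stalk_push ι (Coh.structureModule X) (x := p)
      (fun ⟨x, _⟩ => isEmptyElim x)
    refine subsingleton_of_forall_eq 0 fun α => ?_
    have h1 : (1 : P.presheaf.stalk p) ∈ Module.annihilator (P.presheaf.stalk p)
        (((Scheme.Modules.pushforward ι).obj (Coh.structureModule X)).presheaf.stalk p) :=
      Module.mem_annihilator.mpr fun m => Subsingleton.elim _ _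
    simpa using Depth.Ext.smul_eq_zero_of_annihilator_src h1 α
  | coe c =>
    rw [hd] at hX
    cases c with
    | top =>
      exfalso
      rw [← WithBot.coe_natCast, ← WithBot.coe_natCast, ← WithBot.coe_add, top_add,
        WithBot.coe_le_coe] at hX
      exact (ENat.natCast_ne_top n) (top_le_iff.1 hX)
    | coe d =>
      have hdr : d + r ≤ n := by
        rw [← WithBot.coe_natCast, ← WithBot.coe_natCast, ← WithBot.coe_add, WithBot.coe_le_coe] at hX
        exact_mod_cast hX
      exact Vanish.subsingleton_ext f ι hreg hP (d := d) (le_of_eq hd) hdr E hE hq p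

/-- The components of `P^n_k` have dimension `n`. -/
theorem projSpace_components (n : ℕ) (k : Type u) [Field k] (Z : Set (CohB1.ProjSpace n k))
    (hZ : Z ∈ irreducibleComponents (CohB1.ProjSpace n k)) : topologicalKrullDim Z = (n : WithBot ℕ∞) := by
  haveI := ProjSpace.Basic.irreducibleSpace_projSpace (n := n) (R := k)
  rw [irreducibleComponents_eq_singleton, Set.mem_singleton_iff] at hZ
  subst hZ
  rw [← ProjSpace.Dim.topologicalKrullDim_projSpace_of_field n k]
  exact (IsHomeomorph.topologicalKrullDim_eq _ (Homeomorph.Set.univ _).isHomeomorph)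

end Groth.Agent.Lib.ExtShStalk.Zero
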