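import Groth.Agent.Lib.Cyc.FieldDim
import Groth.Agent.Lib.Cyc.TorPD

/-!
# Dimension bounds at a point of a scheme locally of finite type over a field
-/

set_option autoImplicit false
universe u

open CategoryTheory AlgebraicGeometry

namespace Groth.Agent.Lib.ExtShStalk.DimBound

/-- The dimension of a quotient is bounded by the dimensions at the primes containing the ideal. -/
theorem ringKrullDim_quotient_le_of_forall {R : Type u} [CommRing R] (I : Ideal R) (d : WithBot ℕ∞)
    (h : ∀ q : PrimeSpectrum R, I ≤ q.asIdeal → ringKrullDim (R ⧸ q.asIdeal) ≤ d) :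
    ringKrullDim (R ⧸ I) ≤ d := by
  rw [ringKrullDim_quotient]
  refine iSup_le fun s => le_trans ?_ (h s.head.1 s.head.2)
  rw [ringKrullDim_quotient]
  exact Order.LTSeries.length_le_krullDim
    { length := s.length
      toFun := fun i => ⟨(s.toFun i).1, fun a ha => (s.head_le i : s.head ≤ s.toFun i) ha⟩
      step := fun i => s.step i }

theorem ringKrullDim_le_of_forall {R : Type u} [CommRing R] (d : WithBot ℕ∞)
    (h : ∀ q : PrimeSpectrum R, ringKrullDim (R ⧸ q.asIdeal) ≤ d) : ringKrullDim R ≤ d := by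
  rw [← ringKrullDim_eq_of_ringEquiv (RingEquiv.quotientBot R)]
  exact ringKrullDim_quotient_le_of_forall ⊥ d fun q _ => h q

variable {X : Scheme.{u}} {k : Type u} [Field k] (f : X ⟶ Spec (CommRingCat.of k)) [LocallyOfFiniteType f]

open Cyc.DimFun Cyc.FieldDim

theorem fdelta_le {d : ℕ} (hd : topologicalKrullDim X ≤ (d : WithBot ℕ∞)) (z : X) : fdelta f z ≤ d := by
  have h := (topologicalKrullDim_closure f z).symm.trans_le
    ((topologicalKrullDim_subspace_le X (closure ({z} : Set X))).trans hd)
  have h' : (fdelta f z).toNat ≤ d := by exact_mod_cast h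
  omega

/-- `dim O_x + dim cl x ≤ d` when `dim X ≤ d`. -/
theorem ringKrullDim_stalk_le {d : ℕ} (hd : topologicalKrullDim X ≤ (d : WithBot ℕ∞)) (x : X) :
    ringKrullDim (X.presheaf.stalk x) ≤ ((d - (fdelta f x).toNat : ℕ) : WithBot ℕ∞) := by
  refine ringKrullDim_le_of_forall _ fun q => ?_
  have e := ringKrullDim_locQuot (isDimFun_fdelta f) x _ (fromSpecStalk_specializes_self x q)
  have hq : q.asIdeal = (genPrime x _ (fromSpecStalk_specializes_self x q)).asIdeal :=
    congrArg PrimeSpectrum.asIdeal (eq_genPrime x q)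
  refine (ringKrullDim_eq_of_ringEquiv (Ideal.quotEquivOfEq hq)).trans_le (e.trans_le ?_)
  have h1 := fdelta_le f hd (X.fromSpecStalk x q)
  have h2 := fdelta_nonneg f x
  exact_mod_cast (show ((fdelta f (X.fromSpecStalk x q) - fdelta f x).toNat) ≤ d - (fdelta f x).toNat by omega)

/-- `n ≤ dim O_x + dim cl x` when every component of `X` has dimension `n`. -/
theorem le_ringKrullDim_stalk {n : ℕ}
    (heq : ∀ Z : Set X, Z ∈ irreducibleComponents X → topologicalKrullDim Z = (n : WithBot ℕ∞)) (x : X) :
    ((n - (fdelta f x).toNat : ℕ) : WithBot ℕ∞) ≤ ringKrullDim (X.presheaf.stalk x) := by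
  obtain ⟨ξ, hξ, hmax⟩ := exists_isMaxPt_specializes x
  have h1 := heq _ (closure_mem_irreducibleComponents ξ hmax)
  rw [topologicalKrullDim_closure f ξ] at h1
  have h1' : (fdelta f ξ).toNat = n := by exact_mod_cast h1
  refine le_trans ?_ (ringKrullDim_quotient_le (genPrime x ξ hξ).asIdeal)
  refine le_of_le_of_eq ?_ (ringKrullDim_locQuot (isDimFun_fdelta f) x ξ hξ).symm
  have h2 := fdelta_nonneg f x
  exact_mod_cast (show n - (fdelta f x).toNat ≤ (fdelta f ξ - fdelta f x).toNat by omega)

end Groth.Agent.Lib.ExtShStalk.DimBound
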