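import Groth.Agent.Lib.ExtShStalk.DimBound
import Groth.Agent.Lib.Depth.Vanish
import Groth.Agent.Lib.Depth.SES
import Groth.Agent.Lib.Depth.CM
import Groth.Agent.Lib.Goren.Basic
import Groth.Agent.Lib.PushClosed.Unit
import Groth.Agent.Lib.Cyc.SheafLen
import Groth.Agent.Lib.RefHull.LocFree
import Groth.Agent.Lib.RefHull.Reflexive
import Groth.Agent.Lib.Cyc.Dev.SchemeEquiv
import Groth.Agent.Lib.Perfect.Coherent

/-!
# `Ext^q((ι_* O_X)_p, E_p) = 0` below the codimension
-/

set_option autoImplicit false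
set_option linter.style.haveILetI false
universe u

open CategoryTheory CategoryTheory.Limits AlgebraicGeometry IsLocalRing

noncomputable section

namespace Groth.Agent.Lib.ExtShStalk.Vanish

open Groth.Agent.Lib

/-- A regular local ring is Cohen-Macaulay, so its depth is its dimension. -/
theorem ringKrullDim_eq_depth (R : Type u) [CommRing R] [IsRegularLocalRing R] :
    ringKrullDim R = ((LocCoh.depth R R : ℕ∞) : WithBot ℕ∞) := by
  haveI := Goren.Basic.isGorensteinLocalRing_of_isRegular R
  obtain ⟨n, hn⟩ := Goren.Basic.isGorensteinLocalRing_iff.1 ‹LocCoh.IsGorensteinLocalRing R›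
  obtain ⟨d, -, -, hCM, -⟩ := Goren.Basic.exists_dim hn
  haveI := hCM
  exact Depth.CM.ringKrullDim_eq_depth

/-- The depth of a finite free module is at least that of the ring. -/
theorem depth_le_depth_pi {R : Type u} [CommRing R] [IsNoetherianRing R] [IsLocalRing R] :
    ∀ (m : ℕ) {d : ℕ}, (d : ℕ∞) ≤ LocCoh.depth R R → (d : ℕ∞) ≤ LocCoh.depth R (Fin m → R) := by
  intro m
  induction m with
  | zero => exact fun _ => le_top.trans (Depth.Basic.idealDepth_of_smul_top_eq (Subsingleton.elim _ _)).ge
  | succ m ih =>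
    intro d hd
    refine Depth.SES.le_idealDepth_middle (maximalIdeal R)
      (f := LinearMap.single R (fun _ : Fin (m + 1) => R) 0)
      (g := LinearMap.funLeft R R Fin.succ) (fun a b hab => ?_) ?_
      (fun v => ⟨Fin.cons 0 v, funext fun i => by simp [LinearMap.funLeft_apply]⟩) hd (ih hd)
    · simpa using congrFun hab 0
    · intro v
      refine ⟨fun hv => ⟨v 0, funext fun i => ?_⟩, ?_⟩
      · rcases Fin.eq_zero_or_eq_succ i with rfl | ⟨j, rfl⟩
        · simp
        · simpa [LinearMap.funLeft_apply, Fin.succ_ne_zero] using (congrFun hv j).symm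
      · rintro ⟨a, rfl⟩
        exact funext fun j => by simp [LinearMap.funLeft_apply, Fin.succ_ne_zero]

variable {k : Type u} [Field k] {P X : Scheme.{u}} (f : P ⟶ Spec (CommRingCat.of k)) [LocallyOfFiniteType f]
  (ι : X ⟶ P) [IsClosedImmersion ι]

omit [LocallyOfFiniteType f] in
theorem fdelta_comp (x : X) : Cyc.FieldDim.fdelta (ι ≫ f) x = Cyc.FieldDim.fdelta f (ι x) := by
  rw [Cyc.FieldDim.fdelta, Cyc.FieldDim.fdelta, Cyc.Residue.trdegAt_comp,
    Cyc.FieldDim.trdegAt_eq_zero_of_surjective ι x (Cyc.FieldDim.residueFieldMap_surjective ι x), add_zero]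

include f in
/-- `Ext^q((ι_* O_X)_p, E_p) = 0` for `q` below the codimension. -/
theorem subsingleton_ext (hreg : ∀ p : P, IsRegularLocalRing (P.presheaf.stalk p)) {n r d : ℕ}
    (hP : ∀ Z : Set P, Z ∈ irreducibleComponents P → topologicalKrullDim Z = (n : WithBot ℕ∞))
    (hX : topologicalKrullDim X ≤ (d : WithBot ℕ∞)) (hrd : d + r ≤ n)
    (E : P.Modules) (hE : FlatMod.IsFinLocFree E) {q : ℕ} (hq : q < r) (p : P) :
    Subsingleton (Abelian.Ext.{u}
      (ModuleCat.of (P.presheaf.stalk p)
        (((Scheme.Modules.pushforward ι).obj (Coh.structureModule X)).presheaf.stalk p))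
      (ModuleCat.of (P.presheaf.stalk p) (E.presheaf.stalk p)) q) := by
  haveI := hreg p
  by_cases hp : p ∈ Set.range ι.base
  swap
  · haveI := PushClosed.Unit.subsingleton_stalk_push ι (Coh.structureModule X) hp
    refine subsingleton_of_forall_eq 0 fun α => ?_
    have h1 : (1 : P.presheaf.stalk p) ∈ Module.annihilator (P.presheaf.stalk p)
        (((Scheme.Modules.pushforward ι).obj (Coh.structureModule X)).presheaf.stalk p) :=
      Module.mem_annihilator.mpr fun m => Subsingleton.elim _ _
    simpa using Depth.Ext.smul_eq_zero_of_annihilator_src h1 α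
  obtain ⟨x, rfl⟩ := hp
  haveI : IsLocallyNoetherian P := LocallyOfFiniteType.isLocallyNoetherian f
  haveI : IsLocallyNoetherian X := LocallyOfFiniteType.isLocallyNoetherian ι
  let M := (Scheme.Modules.pushforward ι).obj (Coh.structureModule X)
  haveI : Module.Finite (P.presheaf.stalk (ι.base x)) (M.presheaf.stalk (ι.base x)) :=
    RefHull.LocFree.finite_stalk (Cyc.Dev.SchemeEquiv.isCoh_push ι RefHull.Reflexive.isCoh_structure) _
  haveI : Module.Finite (P.presheaf.stalk (ι.base x)) (E.presheaf.stalk (ι.base x)) :=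
    RefHull.LocFree.finite_stalk (Perfect.Coherent.isCoh_of_isFinLocFree hE) _
  haveI := RefHull.LocFree.free_stalk hE (ι.base x)
  refine Depth.Vanish.subsingleton_ext_of_supportDim_lt
    (ModuleCat.of (P.presheaf.stalk (ι.base x)) (M.presheaf.stalk (ι.base x))) q _ ?_
  obtain ⟨e'⟩ := Cyc.SheafLen.exists_unit_stalk_equiv x
  have hker : RingHom.ker (ι.stalkMap x).hom ≤
      Module.annihilator (P.presheaf.stalk (ι.base x)) (M.presheaf.stalk (ι.base x)) := fun a ha =>
    Module.mem_annihilator.mpr fun m =>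
      (PushClosed.Unit.bijective_pushStalkMap ι (Coh.structureModule X) x).1 (by
        refine (DerivedOX.PullbackStalk.pushStalkMap_smul ι x _ a m).trans ?_
        rw [show (ι.stalkMap x).hom a = 0 from ha]
        exact (zero_smul (X.presheaf.stalk x) _).trans (map_zero _).symm)
  have hsupp : Module.supportDim (P.presheaf.stalk (ι.base x)) (M.presheaf.stalk (ι.base x)) ≤
      ringKrullDim (X.presheaf.stalk x) := by
    rw [Module.supportDim_eq_ringKrullDim_quotient_annihilator]
    refine (ringKrullDim_le_of_surjective (Ideal.Quotient.factor hker)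
      (Ideal.Quotient.factor_surjective hker)).trans ?_
    exact (ringKrullDim_eq_of_ringEquiv
      (RingHom.quotientKerEquivOfSurjective (ι.stalkMap_surjective x))).le
  have hXle := DimBound.ringKrullDim_stalk_le (ι ≫ f) hX x
  have hPge := DimBound.le_ringKrullDim_stalk f hP (ι.base x)
  rw [ringKrullDim_eq_depth] at hPge
  have hδ := fdelta_comp f ι x
  have hδd := DimBound.fdelta_le (ι ≫ f) hX x
  have hδ0 := Cyc.FieldDim.fdelta_nonneg f (ι x)
  have hd : ((n - (Cyc.FieldDim.fdelta f (ι.base x)).toNat : ℕ) : ℕ∞) ≤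
      LocCoh.depth (P.presheaf.stalk (ι.base x)) (P.presheaf.stalk (ι.base x)) :=
    WithBot.coe_le_coe.1 (le_of_eq_of_le (WithBot.coe_natCast _) hPge)
  have hdE : ((n - (Cyc.FieldDim.fdelta f (ι.base x)).toNat : ℕ) : ℕ∞) ≤
      LocCoh.depth (P.presheaf.stalk (ι.base x)) (E.presheaf.stalk (ι.base x)) :=
    le_of_le_of_eq (depth_le_depth_pi _ hd) (Depth.Basic.depth_congr
      (Module.finBasis (P.presheaf.stalk (ι.base x)) (E.presheaf.stalk (ι.base x))).equivFun).symm
  refine lt_of_lt_of_le ?_ (WithBot.coe_le_coe.2 hdE)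
  refine lt_of_le_of_lt (add_le_add le_rfl (hsupp.trans hXle)) ?_
  simp only [WithBot.coe_natCast]
  rw [← Nat.cast_add, Nat.cast_lt]
  omega

end Groth.Agent.Lib.ExtShStalk.Vanish
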