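import Groth.Agent.Lib.ExtShStalk.Vanish
import Groth.Agent.Lib.Regular.Serre
import Groth.Agent.Lib.LCFin.Duality
import Groth.Agent.Lib.Depth.LocalCoh
import Groth.Agent.Lib.InjHull.Matlis

/-!
# `Ext^q(M, R) = 0` for `q > dim R - depth M`, and depth of stalks of direct images
-/

set_option autoImplicit false
set_option linter.style.haveILetI false
universe u

open CategoryTheory CategoryTheory.Limits AlgebraicGeometry IsLocalRing

noncomputable section

namespace Groth.Agent.Lib.ExtShStalk.High

open Groth.Agent.Lib

/-- Over a regular local ring `Ext^q(M, R) = 0` once `dim R < depth M + q`. -/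
theorem subsingleton_ext_self {R : Type u} [CommRing R] [IsRegularLocalRing R] (d : ℕ)
    (hd : ringKrullDim R = d) (M : Type u) [AddCommGroup M] [Module R M] [Module.Finite R M] {e q : ℕ}
    (he : (e : ℕ∞) ≤ LocCoh.depth R M) (hq : d < e + q) :
    Subsingleton (Abelian.Ext.{u} (ModuleCat.of R M) (ModuleCat.of R R) q) := by
  have hn : (maximalIdeal R).spanFinrank = d := by
    have := ‹IsRegularLocalRing R›.spanFinrank_maximalIdeal
    rw [hd] at this
    exact_mod_cast this
  by_cases hqd : d < q
  · have h := Regular.Serre.pdle_all (R := R) M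
    rw [hn] at h
    haveI : HasProjectiveDimensionLT (ModuleCat.of R M) (d + 1) := h
    exact HasProjectiveDimensionLT.subsingleton (ModuleCat.of R M) (d + 1) q (by omega) _
  haveI := Goren.Basic.isGorensteinLocalRing_of_isRegular R
  obtain ⟨e₁⟩ := LCFin.Duality.exists_duality d hd M (i := d - q) (j := q) (by omega)
  obtain ⟨g, hg⟩ := LCFin.Gorenstein.exists_isInjectiveHull R d hd
  haveI : Subsingleton (LocCoh.H (maximalIdeal R) (d - q) M) :=
    (Depth.LocalCoh.le_idealDepth_iff_H _ _ e).1 he _ (by omega)
  haveI := e₁.symm.injective.subsingleton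
  exact subsingleton_of_forall_eq 0 fun z => InjHull.Matlis.eq_zero_of_forall_dual hg fun φ => by
    rw [Subsingleton.elim φ 0, LinearMap.zero_apply]

variable {X P : Scheme.{u}} (ι : X ⟶ P) [IsClosedImmersion ι]

/-- The depth of a stalk does not change under a closed immersion. -/
theorem depth_push_eq (F : X.Modules) (x : X) :
    LocCoh.depth (P.presheaf.stalk (ι.base x))
        (((Scheme.Modules.pushforward ι).obj F).presheaf.stalk (ι.base x)) =
      LocCoh.depth (X.presheaf.stalk x) (F.presheaf.stalk x) := by
  letI : Algebra (P.presheaf.stalk (ι.base x)) (X.presheaf.stalk x) := (ι.stalkMap x).hom.toAlgebra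
  letI : Module (P.presheaf.stalk (ι.base x)) (F.presheaf.stalk x) :=
    Module.compHom _ (ι.stalkMap x).hom
  haveI : IsScalarTower (P.presheaf.stalk (ι.base x)) (X.presheaf.stalk x)
      (F.presheaf.stalk x) := ⟨fun a b c => mul_smul ((ι.stalkMap x).hom a) b c⟩
  let e : ((Scheme.Modules.pushforward ι).obj F).presheaf.stalk (ι.base x) ≃ₗ[P.presheaf.stalk (ι.base x)]
      F.presheaf.stalk x :=
    LinearEquiv.ofBijective
      ({ toFun := fun a => DerivedOX.PullbackStalk.pushStalkMap ι x F a
         map_add' := fun a b => map_add (DerivedOX.PullbackStalk.pushStalkMap ι x F).hom a b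
         map_smul' := fun c a => DerivedOX.PullbackStalk.pushStalkMap_smul ι x F c a } :
        ((Scheme.Modules.pushforward ι).obj F).presheaf.stalk (ι.base x) →ₗ[P.presheaf.stalk (ι.base x)]
          F.presheaf.stalk x)
      (PushClosed.Unit.bijective_pushStalkMap ι F x)
  rw [Depth.Basic.depth_congr e]
  exact Depth.Basic.depth_eq_of_surjective (ι.stalkMap_surjective x)

end Groth.Agent.Lib.ExtShStalk.High
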