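import Groth.Agent.Lib.ExtShStalk.High
import Groth.Agent.Lib.Depth.Ext

/-!
# The lowest nonvanishing `Ext^c(M, G)`: regular elements, and the residue field
-/

set_option autoImplicit false
set_option linter.style.haveILetI false
universe u

open CategoryTheory CategoryTheory.Abelian IsLocalRing

noncomputable section

namespace Groth.Agent.Lib.ExtShStalk.Top

open Groth.Agent.Lib

variable {R : Type u} [CommRing R] [IsNoetherianRing R] [IsLocalRing R]

/-- If `a` cuts down the dimension of `M`, it is regular on `Ext^c(M, G)`, `c = depth G - dim M`. -/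
theorem eq_zero_of_smul (M : Type u) [AddCommGroup M] [Module R M] [Module.Finite R M]
    (G : Type u) [AddCommGroup G] [Module R G] [Module.Finite R G] (c : ℕ) (a : R)
    (hM : ((c : ℕ∞) : WithBot ℕ∞) + Module.supportDim R M ≤ ((LocCoh.depth R G : ℕ∞) : WithBot ℕ∞))
    (hQ : ((c : ℕ∞) : WithBot ℕ∞) + Module.supportDim R (M ⧸ LinearMap.range (LinearMap.lsmul R M a)) <
      ((LocCoh.depth R G : ℕ∞) : WithBot ℕ∞))
    (z : Ext.{u} (ModuleCat.of R M) (ModuleCat.of R G) c) (hz : a • z = 0) : z = 0 := by
  let f : M →ₗ[R] M := LinearMap.lsmul R M a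
  let i := (LinearMap.range f).subtype
  let q := f.rangeRestrict
  have hq : Function.Surjective q := f.surjective_rangeRestrict
  have hS₁ := LinearMap.shortExact_shortComplexKer (f := q) hq
  let T := ShortComplex.mk (ModuleCat.ofHom i) (ModuleCat.ofHom (LinearMap.range f).mkQ)
    (ModuleCat.hom_ext (LinearMap.ext fun x => (Submodule.Quotient.mk_eq_zero _).2 x.2))
  have hT : T.ShortExact :=
    { exact := (ShortComplex.ShortExact.moduleCat_exact_iff_function_exact _).mpr (LinearMap.exact_subtype_mkQ _)
      mono_f := (ModuleCat.mono_iff_injective _).mpr (LinearMap.range f).injective_subtype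
      epi_g := (ModuleCat.epi_iff_surjective _).mpr (Submodule.mkQ_surjective _) }
  have hfac : ModuleCat.ofHom q ≫ ModuleCat.ofHom i = a • 𝟙 (ModuleCat.of R M) := ModuleCat.hom_ext rfl
  have h0 : (Ext.mk₀ (ModuleCat.ofHom q)).comp
      ((Ext.mk₀ (ModuleCat.ofHom i)).comp z (zero_add c)) (zero_add c) = 0 := by
    rw [← Ext.comp_assoc_of_second_deg_zero, Ext.mk₀_comp_mk₀, hfac, Ext.mk₀_smul, Ext.smul_comp,
      Ext.mk₀_id_comp, hz]
  have h1 : (Ext.mk₀ (ModuleCat.ofHom i)).comp z (zero_add c) = 0 := by
    cases c with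
    | zero =>
      haveI : Epi (ModuleCat.ofHom q) := (ModuleCat.epi_iff_surjective _).mpr hq
      exact Ext.precomp_mk₀_injective_of_epi (ModuleCat.of R G) (ModuleCat.ofHom q)
        (h0.trans (Ext.comp_zero _ _ 0 _ (zero_add 0)).symm)
    | succ c =>
      obtain ⟨x₁, hx⟩ := Ext.contravariant_sequence_exact₃ hS₁ _
        ((Ext.mk₀ (ModuleCat.ofHom i)).comp z (zero_add (c + 1))) h0 (add_comm 1 c)
      haveI : Subsingleton (Ext.{u} (LinearMap.shortComplexKer q).X₁ (ModuleCat.of R G) c) := by
        refine Depth.Vanish.subsingleton_ext_of_supportDim_lt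
          (ModuleCat.of R (LinearMap.ker q)) c (ModuleCat.of R G) ?_
        cases hd : Module.supportDim R M with
        | bot =>
          have hb : Module.supportDim R (LinearMap.ker q) = ⊥ :=
            le_bot_iff.1 (le_of_le_of_eq
              (Module.supportDim_le_of_injective _ (LinearMap.ker q).injective_subtype) hd)
          rw [hb, WithBot.add_bot]
          exact WithBot.bot_lt_coe _
        | coe e =>
          refine lt_of_le_of_lt (add_le_add le_rfl
            (le_of_le_of_eq (Module.supportDim_le_of_injective _ (LinearMap.ker q).injective_subtype) hd)) ?_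
          rw [hd] at hM
          cases e with
          | top =>
            exfalso
            exact absurd hd (fun h => by
              have := Module.supportDim_le_ringKrullDim R M
              rw [h, WithBot.coe_top, top_le_iff] at this
              exact ringKrullDim_ne_top this)
          | coe m =>
            refine lt_of_lt_of_le ?_ hM
            rw [← WithBot.coe_add, ← WithBot.coe_add, WithBot.coe_lt_coe]
            exact_mod_cast (show c + m < c + 1 + m by omega)
      rw [← hx, Subsingleton.elim x₁ 0, Ext.comp_zero]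
  obtain ⟨x₃, hx⟩ := Ext.contravariant_sequence_exact₂ hT _ z h1
  haveI : Subsingleton (Ext.{u} T.X₃ (ModuleCat.of R G) c) :=
    Depth.Vanish.subsingleton_ext_of_supportDim_lt (ModuleCat.of R (M ⧸ LinearMap.range f)) c _ hQ
  rw [← hx, Subsingleton.elim x₃ 0, Ext.comp_zero]

/-- `Ext^c(M, G)`, `c = depth G - dim M`, has no element killed by `m` when `dim M > 0`. -/
theorem eq_zero_of_maximalIdeal_smul (M : Type u) [AddCommGroup M] [Module R M] [Module.Finite R M]
    (G : Type u) [AddCommGroup G] [Module R G] [Module.Finite R G] (c D g : ℕ)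
    (hD : Module.supportDim R M = D) (hD0 : D ≠ 0) (hg : (g : ℕ∞) ≤ LocCoh.depth R G) (hc : c + D ≤ g)
    (z : Ext.{u} (ModuleCat.of R M) (ModuleCat.of R G) c) (hz : ∀ a ∈ maximalIdeal R, a • z = 0) :
    z = 0 := by
  have hdim : ringKrullDim (R ⧸ Module.annihilator R M) = D :=
    (Module.supportDim_eq_ringKrullDim_quotient_annihilator R M).symm.trans hD
  obtain ⟨a, ham, ha⟩ : ∃ a ∈ maximalIdeal R, ∀ p ∈ (Module.annihilator R M).minimalPrimes, a ∉ p := by
    by_contra! hcon
    have hsub : ((maximalIdeal R : Ideal R) : Set R) ⊆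
        ⋃ p ∈ (Module.annihilator R M).minimalPrimes, (p : Set R) := fun a ha => by
      obtain ⟨p, hp, hap⟩ := hcon a ha
      exact Set.mem_biUnion hp hap
    obtain ⟨p, hp, hle⟩ := (Ideal.subset_union_prime_finite
      (Ideal.finite_minimalPrimes_of_isNoetherianRing R _) ⊥ ⊥ fun p hp _ _ => hp.1.1).1 hsub
    haveI := hp.1.1
    have hpm : p = maximalIdeal R := le_antisymm (le_maximalIdeal hp.1.1.ne_top) hle
    refine hD0 ?_
    have h0 : ringKrullDim (R ⧸ Module.annihilator R M) ≤ 0 := by
      rw [ringKrullDim_quotient]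
      exact Order.krullDim_nonpos_iff_forall_isMax.2 fun q => fun q' hq' => by
        refine le_of_eq ?_
        have key : ∀ y : PrimeSpectrum.zeroLocus (R := R) (Module.annihilator R M : Set R),
            y.1.asIdeal = maximalIdeal R := fun y => le_antisymm (le_maximalIdeal y.1.2.ne_top)
          (hpm ▸ hp.2 ⟨y.1.2, y.2⟩ ((le_maximalIdeal y.1.2.ne_top).trans_eq hpm.symm))
        exact Subtype.ext (PrimeSpectrum.ext ((key q').trans (key q).symm))
    rw [hdim] at h0
    exact Nat.le_zero.1 (by exact_mod_cast h0)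
  have hq := Module.supportDim_quotSMulTop_succ_le_of_notMem_minimalPrimes (M := M) ha
  have heq : Module.supportDim R (M ⧸ LinearMap.range (LinearMap.lsmul R M a)) =
      Module.supportDim R (QuotSMulTop a M) := Module.supportDim_eq_of_equiv
    (Submodule.quotEquivOfEq _ _ (by
      ext m
      simp [Submodule.mem_smul_pointwise_iff_exists, LinearMap.mem_range]))
  refine eq_zero_of_smul M G c a ?_ ?_ z (hz a ham)
  · rw [hD, ← WithBot.coe_natCast, ← WithBot.coe_add, WithBot.coe_le_coe]
    exact le_trans (by exact_mod_cast hc) hg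
  · rw [heq]
    refine lt_of_lt_of_le ?_ (WithBot.coe_le_coe.2 hg)
    rw [hD] at hq
    cases hd : Module.supportDim R (QuotSMulTop a M) with
    | bot =>
      rw [WithBot.add_bot]
      exact WithBot.bot_lt_coe _
    | coe e =>
      rw [hd, ← WithBot.coe_natCast, ← WithBot.coe_one, ← WithBot.coe_add, WithBot.coe_le_coe] at hq
      rw [← WithBot.coe_add, WithBot.coe_lt_coe]
      obtain ⟨e', rfl⟩ := ENat.ne_top_iff_exists.1 (show e ≠ ⊤ by rintro rfl; simp at hq)
      have hq' : e' + 1 ≤ D := by exact_mod_cast hq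
      exact_mod_cast (show c + e' < g by omega)

omit [IsNoetherianRing R] [IsLocalRing R] in
/-- `Ext^d(k, R)` is simple for a regular local ring of dimension `d`. -/
theorem isSimpleModule_ext_residueField {R : Type u} [CommRing R] [IsRegularLocalRing R] (d : ℕ)
    (hd : ringKrullDim R = d) :
    IsSimpleModule R (Ext.{u} (ModuleCat.of R (ResidueField R)) (ModuleCat.of R R) d) := by
  haveI := Goren.Basic.isGorensteinLocalRing_of_isRegular R
  obtain ⟨e⟩ := LCFin.Duality.exists_duality d hd (ResidueField R) (i := 0) (j := d) (by omega)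
  obtain ⟨g, hg⟩ := LCFin.Gorenstein.exists_isInjectiveHull R d hd
  let V := Ext.{u} (ModuleCat.of R (ResidueField R)) (ModuleCat.of R R) d
  let e₀ : LocCoh.H (maximalIdeal R) 0 (ResidueField R) ≃ₗ[R] ResidueField R :=
    ((LocalCoh.lcZeroIso (maximalIdeal R)).app (ModuleCat.of R (ResidueField R))).toLinearEquiv ≪≫ₗ
      LinearEquiv.ofTop (DRing.torsionSub (maximalIdeal R) (ModuleCat.of R (ResidueField R)))
        (eq_top_iff.2 fun m _ => ⟨1, fun a ha => by
          rw [pow_one] at ha
          exact Module.mem_annihilator.1 (Goren.Basic.mem_annihilator_residueField ha) m⟩)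
  haveI : IsSimpleModule R (ResidueField R) := InjHull.Matlis.isSimpleModule_quotient (m := maximalIdeal R)
  haveI : IsSimpleModule R (V →ₗ[R] LocCoh.H (maximalIdeal R) d R) :=
    IsSimpleModule.congr (e.symm ≪≫ₗ e₀)
  have hlen := InjHull.Matlis.length_dual_simple hg (V →ₗ[R] LocCoh.H (maximalIdeal R) d R)
  have hle : Module.length R V ≤ 1 := (Module.length_le_of_injective _
    (InjHull.Matlis.applyₗ_injective hg V)).trans_eq hlen
  haveI : Nontrivial V := by
    by_contra hV
    haveI := not_nontrivial_iff_subsingleton.1 hV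
    exact not_nontrivial (V →ₗ[R] LocCoh.H (maximalIdeal R) d R) (IsSimpleModule.nontrivial R _)
  exact Module.length_eq_one_iff.1 (le_antisymm hle
    (Order.one_le_iff_ne_zero.2 fun h => not_subsingleton V (Module.length_eq_zero_iff.1 h)))

end Groth.Agent.Lib.ExtShStalk.Top
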